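import Cfsg.Agent.H50.RG.LDefs

/-!
# S5714, layer L (classical groups of large rank, any field): the exact statements of the tasks

A task `RG-Lxx` is done when a theorem `… : H50.RG.Lxx` is proved.  All spaces are in `Type`.

Target (`LSL`, `LSp`, `LSU`, `LOm`): in the groups `slV F V`, `Φ.Iso` (symplectic), `Φ.Iso ⊓ slV F V` (hermitian), `E Q`
of large rank `n`, all but a proportion `ε` of the elements `y` satisfy `R dim V^⟨y⟩ ≤ 2 dim V` for all complex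
representations `V` without fixed vectors, `R = (n² log q) ^ C`.
-/

set_option autoImplicit false

namespace Cfsg.Agent.H50.RG

open Module Cfsg.Agent.H847.Bs Cfsg.Agent.LieClassical.OrthCore
open Cfsg.Agent.H440.Bs (perp mem_perp)

/-- the proper subspaces (the class `TS` of the linear case) -/
def Prp (F V : Type) [Field F] [AddCommGroup V] [Module F V] : Submodule F V → Prop :=
  fun A => finrank F A < finrank F V

/-- the forms, with the parity condition on the dimension `e` (there are no selfdual irreducible isometries of a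
space of dimension `e`) -/
def Cls {F V : Type} [Field F] [AddCommGroup V] [Module F V] (Φ : Frm F V) (e : ℕ) : Prop :=
  Φ.Nd ∧ 2 ≤ e ∧ ((IsSp Φ ∧ Odd e) ∨ (∃ r, IsHerm r Φ ∧ Even e) ∨ (∃ Q : QuadraticForm F V, Φ = frmQ Q ∧ Odd e))

/-- the number of elements of `G` without a good subspace of dimension `e ∈ I` -/
noncomputable def noG {F V : Type} [Field F] [AddCommGroup V] [Module F V] (G : Subgroup (V ≃ₗ[F] V))
    (TS : Submodule F V → Prop) (M : ℕ) (I : Finset ℕ) : ℕ :=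
  Nat.card {y : V ≃ₗ[F] V // y ∈ G ∧ ¬ ∃ e ∈ I, ∃ A, Gd TS e M y A}

/-! ### L1: the second moment argument -/

/-- RG-L01 (helper50) -/
def L01 : Prop := ∀ (F V : Type) [Field F] [Finite F] [AddCommGroup V] [Module F V] [Module.Finite F V]
  (G : Subgroup (V ≃ₗ[F] V)) (TS : Submodule F V → Prop) (k₀ M : ℕ) (I : Finset ℕ) (x : ℕ → ℝ) (η : ℝ),
  (∀ A B, A ≤ B → TS B → TS A) → FT G TS k₀ → (∃ A, TS A ∧ finrank F A = k₀) →
  (∀ g ∈ G, ∀ A, TS A → TS (A.map (g : V →ₗ[F] V))) →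
  (∀ e ∈ I, 2 ≤ e ∧ 2 * e ≤ k₀) →
  (∀ e ∈ I, ∀ e' ∈ I, e ≠ e' → ∀ y ∈ G, ∀ A A', TS A → TS A' → Irr y A → Irr y A' → finrank F A = e →
    finrank F A' = e' → TS (A ⊔ A')) →
  (∀ e ∈ I, ∀ y ∈ G, ∀ s : Finset (Submodule F V), (∀ A ∈ s, Gd TS e M y A) → s.card ≤ 2) →
  (∀ e ∈ I, ∀ B, TS B → e ∣ finrank F B → finrank F B ≤ k₀) →
  (∀ d, 1 ≤ d → d * Nat.card {g : GL (Fin d) F // IrrM F g} ≤ Nat.card (GL (Fin d) F)) →
  (∀ e ∈ I, x e * Nat.card (GL (Fin e) F) = Nat.card {g : GL (Fin e) F // IrrM F g ∧ BigM F e M g}) →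
  0 ≤ η → (∀ e ∈ I, ∑ j ∈ Finset.range k₀, 1 / (((j + 1) * e : ℕ) : ℝ) ≤ η) → η ≤ 1 →
  (noG G TS M I : ℝ) * ((1 - η) * ∑ e ∈ I, x e) ^ 2 ≤
    Nat.card G * (2 * (∑ e ∈ I, x e) + 2 * η * (∑ e ∈ I, x e) ^ 2)

/-! ### L2: counting in `GL_e(F)` -/

/-- RG-L25: irreducible matrices and generators of the field `K` with `q ^ d` elements -/
def L25 : Prop := ∀ (F K : Type) [Field F] [Finite F] [Field K] [Finite K] [Algebra F K] (d : ℕ), 1 ≤ d →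
  finrank F K = d → ∀ P : ℕ → Prop,
  d * Nat.card {g : GL (Fin d) F // IrrM F g ∧ P (orderOf g)} * (Nat.card F ^ d - 1) =
    Nat.card (GL (Fin d) F) * Nat.card {u : Kˣ // Algebra.adjoin F {(u : K)} = ⊤ ∧ P (orderOf u)}

/-- RG-L02 -/
def L02 : Prop := ∀ (F : Type) [Field F] [Finite F] (d : ℕ), 1 ≤ d →
  d * Nat.card {g : GL (Fin d) F // IrrM F g} ≤ Nat.card (GL (Fin d) F)

/-- RG-L03 -/
def L03 : Prop := ∀ (F : Type) [Field F] [Finite F] (e M : ℕ), 3 ≤ e → 2 ≤ M →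
  16 * e * M ^ 2 ≤ Nat.card F ^ e.totient →
  Nat.card (GL (Fin e) F) ≤ 2 * e * Nat.card {g : GL (Fin e) F // IrrM F g ∧ BigM F e M g}

/-! ### L3: transitivity on frames, existence of frames -/

/-- RG-L04 -/
def L04 : Prop := ∀ (F V : Type) [Field F] [Finite F] [AddCommGroup V] [Module F V] [Module.Finite F V],
  1 ≤ finrank F V → FT (slV F V) (Prp F V) (finrank F V - 1)

/-- RG-L05 (Witt) -/
def L05 : Prop := ∀ (F V : Type) [Field F] [Finite F] [AddCommGroup V] [Module F V] [Module.Finite F V]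
  (Φ : Frm F V), IsSp Φ → ∀ k₀, 2 * k₀ + 3 ≤ finrank F V → FT Φ.Iso Φ.TI k₀

/-- RG-L06 (Witt) -/
def L06 : Prop := ∀ (F V : Type) [Field F] [Finite F] [AddCommGroup V] [Module F V] [Module.Finite F V]
  (r : ℕ) (Φ : Frm F V), IsHerm r Φ → ∀ k₀, 2 * k₀ + 3 ≤ finrank F V → FT (Φ.Iso ⊓ slV F V) Φ.TI k₀

/-- RG-L07 (Witt) -/
def L07 : Prop := ∀ (F V : Type) [Field F] [Finite F] [AddCommGroup V] [Module F V] [Module.Finite F V]
  (Q : QuadraticForm F V), (frmQ Q).Nd → ∀ k₀, 2 * k₀ + 3 ≤ finrank F V → FT (E Q) (frmQ Q).TI k₀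

/-- RG-L08: existence of totally isotropic (singular) subspaces, and their maximal dimension -/
def L08 : Prop := ∀ (F V : Type) [Field F] [Finite F] [AddCommGroup V] [Module F V] [Module.Finite F V]
  (Φ : Frm F V), (IsSp Φ ∨ (∃ r, IsHerm r Φ) ∨ (∃ Q : QuadraticForm F V, (frmQ Q).Nd ∧ Φ = frmQ Q)) →
  (∀ k, 2 * k + 2 ≤ finrank F V → ∃ A : Submodule F V, Φ.TI A ∧ finrank F A = k) ∧
  ∀ A : Submodule F V, Φ.TI A → 2 * finrank F A ≤ finrank F V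

/-! ### L4: sums of irreducible subspaces, number of good subspaces -/

/-- RG-L09 -/
def L09 : Prop := ∀ (F V : Type) [Field F] [Finite F] [AddCommGroup V] [Module F V] [Module.Finite F V]
  (Φ : Frm F V), Φ.Nd → ∀ y ∈ Φ.Iso, ∀ A A' : Submodule F V, Φ.TI A → Φ.TI A' → Irr y A → Irr y A' →
  finrank F A ≠ finrank F A' → Φ.TI (A ⊔ A')

/-- RG-L10: there is no nonzero pairing invariant under an irreducible element `z` of the right parity -/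
def L10 : Prop := ∀ (F X : Type) [Field F] [Finite F] [AddCommGroup X] [Module F X] [Module.Finite F X]
  (e r : ℕ) (z : X ≃ₗ[F] X), 2 ≤ e → Irr z ⊤ → r.Prime → r ∣ orderOf z →
  orderOf ((Nat.card F : ℕ) : ZMod r) = e →
  ∀ (s : F → F), ((∀ a, s a = a) ∧ Odd e ∨ (∃ t : ℕ, Nat.card F = t ^ 2 ∧ (∀ a, s a = a ^ t)) ∧ Even e) →
  ∀ B : X → X → F, (∀ x y w, B (x + y) w = B x w + B y w) → (∀ x y w, B x (y + w) = B x y + B x w) →
  (∀ (a : F) (x y), B (a • x) y = a * B x y) → (∀ (a : F) (x y), B x (a • y) = s a * B x y) →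
  (∀ x y, B (z x) (z y) = B x y) → ∀ x y, B x y = 0

/-- RG-L11 -/
def L11 : Prop := ∀ (F V : Type) [Field F] [Finite F] [AddCommGroup V] [Module F V] [Module.Finite F V]
  (Φ : Frm F V) (e M : ℕ), Cls Φ e → 2 ≤ M → ∀ y ∈ Φ.Iso, ∀ s : Finset (Submodule F V),
  (∀ A ∈ s, Gd Φ.TI e M y A) → s.card ≤ 2

/-- RG-L12 -/
def L12 : Prop := ∀ (F V : Type) [Field F] [Finite F] [AddCommGroup V] [Module F V] [Module.Finite F V]
  (e M : ℕ), 2 ≤ e → 2 * e < finrank F V → ∀ (y : V ≃ₗ[F] V), ∀ s : Finset (Submodule F V),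
  (∀ A ∈ s, Gd (Prp F V) e M y A) → s.card ≤ 1

/-! ### L5: a cyclic group acting freely on two opposite unipotent radicals -/

/-- RG-L23: the part of `⟨y⟩` for the primes `r` with `ord_r(q) = e` -/
def L23 : Prop := ∀ (F V : Type) [Field F] [Finite F] [AddCommGroup V] [Module F V] [Module.Finite F V]
  (e M : ℕ) (y : V ≃ₗ[F] V) (A : Submodule F V), 2 ≤ e → 2 ≤ M → BigOn e M y A →
  ∃ Z : Subgroup (V ≃ₗ[F] V), Z ≤ Subgroup.zpowers y ∧ M ≤ Nat.card Z ∧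
    ∀ z ∈ Z, ∀ r : ℕ, r.Prime → r ∣ orderOf z → orderOf ((Nat.card F : ℕ) : ZMod r) = e

/-- RG-L24: powers of an irreducible element -/
def L24 : Prop := ∀ (F X : Type) [Field F] [Finite F] [AddCommGroup X] [Module F X] [Module.Finite F X]
  (e r : ℕ) (y z : X ≃ₗ[F] X), 2 ≤ e → Irr y ⊤ → z ∈ Subgroup.zpowers y → r.Prime → r ∣ orderOf z →
  orderOf ((Nat.card F : ℕ) : ZMod r) = e →
  e ∣ finrank F X ∧ (finrank F X = e → Irr z ⊤) ∧ ∀ x : X, z x = x → x = 0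

/-- `Z` normalises `S` and acts freely on it -/
def Free {G : Type*} [Group G] (Z S : Subgroup G) : Prop :=
  (∀ z ∈ Z, ∀ g ∈ S, z * g * z⁻¹ ∈ S) ∧ ∀ z ∈ Z, z ≠ 1 → ∀ g ∈ S, z * g * z⁻¹ = g → g = 1

/-- RG-L13 -/
def L13 : Prop := ∀ (F V : Type) [Field F] [Finite F] [AddCommGroup V] [Module F V] [Module.Finite F V]
  (e M : ℕ), 2 ≤ e → 2 ≤ M → ¬ e ∣ finrank F V → ∀ (y : V ≃ₗ[F] V) (A : Submodule F V), Gd (Prp F V) e M y A →
  ∃ (Z : Subgroup (V ≃ₗ[F] V)) (C : Submodule F V), Z ≤ Subgroup.zpowers y ∧ M ≤ Nat.card Z ∧ IsCompl A C ∧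
    Free Z (HomS A) ∧ Free Z (HomS C)

/-- RG-L14: the primary decomposition (first half of the core for forms) -/
def L14 : Prop := ∀ (F V : Type) [Field F] [Finite F] [AddCommGroup V] [Module F V] [Module.Finite F V]
  (Φ : Frm F V) (e M : ℕ), Cls Φ e → 2 ≤ M → ∀ y ∈ Φ.Iso, ∀ A : Submodule F V, Gd Φ.TI e M y A →
  ∃ (Z : Subgroup (V ≃ₗ[F] V)) (A' C : Submodule F V), Z ≤ Subgroup.zpowers y ∧ M ≤ Nat.card Z ∧ Opp Φ A A' C ∧
    (∀ z ∈ Z, (∀ c ∈ C, z c = c) ∧ Inv z A ∧ Inv z A') ∧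
    ∀ z ∈ Z, z ≠ 1 → (∀ W ≤ A, Inv z W → W = ⊥ ∨ W = A) ∧ (∀ a ∈ A, z a = a → a = 0) ∧
      (∀ W ≤ A', Inv z W → W = ⊥ ∨ W = A') ∧ (∀ a ∈ A', z a = a → a = 0) ∧
      ∃ r : ℕ, r.Prime ∧ r ∣ orderOf z ∧ orderOf ((Nat.card F : ℕ) : ZMod r) = e

/-- RG-L15: free action on the radical (second half of the core for forms) -/
def L15 : Prop := ∀ (F V : Type) [Field F] [Finite F] [AddCommGroup V] [Module F V] [Module.Finite F V]
  (Φ : Frm F V) (e : ℕ) (A A' C : Submodule F V), Cls Φ e → finrank F A = e → Opp Φ A A' C → ∀ z ∈ Φ.Iso,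
  (∀ c ∈ C, z c = c) → Inv z A → Inv z A' → (∀ W ≤ A, Inv z W → W = ⊥ ∨ W = A) → (∀ a ∈ A, z a = a → a = 0) →
  (∀ W ≤ A', Inv z W → W = ⊥ ∨ W = A') → (∀ a ∈ A', z a = a → a = 0) →
  (∃ r : ℕ, r.Prime ∧ r ∣ orderOf z ∧ orderOf ((Nat.card F : ℕ) : ZMod r) = e) →
  ∀ g ∈ RadG Φ A, z * g * z⁻¹ = g → g = 1

/-! ### L6: generation by two opposite radicals -/

/-- RG-L16 -/
def L16 : Prop := ∀ (F V : Type) [Field F] [Finite F] [AddCommGroup V] [Module F V] [Module.Finite F V]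
  (A C : Submodule F V), IsCompl A C → A ≠ ⊥ → C ≠ ⊥ → HomS A ⊔ HomS C = slV F V

/-- RG-L17 -/
def L17 : Prop := ∀ (F V : Type) [Field F] [Finite F] [AddCommGroup V] [Module F V] [Module.Finite F V]
  (Φ : Frm F V) (A A' C : Submodule F V), IsSp Φ → Opp Φ A A' C → A ≠ ⊥ → C ≠ ⊥ →
  (Φ.Iso ⊓ RadG Φ A) ⊔ (Φ.Iso ⊓ RadG Φ A') = Φ.Iso

/-- RG-L18 -/
def L18 : Prop := ∀ (F V : Type) [Field F] [Finite F] [AddCommGroup V] [Module F V] [Module.Finite F V]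
  (r : ℕ) (Φ : Frm F V) (A A' C : Submodule F V), IsHerm r Φ → Opp Φ A A' C → 2 ≤ finrank F A → C ≠ ⊥ →
  ((Φ.Iso ⊓ slV F V) ⊓ RadG Φ A) ⊔ ((Φ.Iso ⊓ slV F V) ⊓ RadG Φ A') = Φ.Iso ⊓ slV F V

/-- RG-L19 -/
def L19 : Prop := ∀ (F V : Type) [Field F] [Finite F] [AddCommGroup V] [Module F V] [Module.Finite F V]
  (Q : QuadraticForm F V) (A A' C : Submodule F V), (frmQ Q).Nd → Opp (frmQ Q) A A' C → A ≠ ⊥ → C ≠ ⊥ →
  (E Q ⊓ RadG (frmQ Q) A) ⊔ (E Q ⊓ RadG (frmQ Q) A') = E Q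

/-! ### L7: numerics -/

/-- RG-L20: `par` is the parity of the dimensions, `k₀ = n - 1` (linear case) or `k₀ = (n - 3) / 2` (forms) -/
def L20 : Prop := ∀ (K η : ℝ) (C par : ℕ), 0 < η → ∃ N₀ : ℕ, ∀ n q : ℕ, N₀ ≤ n → 2 ≤ q →
  ∃ (I : Finset ℕ) (M : ℕ), 2 ≤ M ∧ ((n : ℝ) ^ 2 * Real.log q) ^ C ≤ M ∧
    (∀ e ∈ I, 3 ≤ e ∧ e % 2 = par % 2 ∧ 4 * e + 8 ≤ n ∧ ¬ e ∣ n ∧ ¬ e ∣ (n - 1) / 2 ∧ ¬ e ∣ (n + 1) / 2 ∧
      16 * e * M ^ 2 ≤ q ^ e.totient ∧ ∑ j ∈ Finset.range n, 1 / (((j + 1) * e : ℕ) : ℝ) ≤ η) ∧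
    K ≤ ∑ e ∈ I, 1 / (2 * e : ℝ)

/-! ### the results -/

/-- RG-L21 (helper50): linear groups -/
def LSL : Prop := ∀ (ε : ℝ) (C : ℕ), 0 < ε → ∃ N₀ : ℕ, ∀ (F V : Type) [Field F] [Finite F] [AddCommGroup V]
  [Module F V] [Module.Finite F V], N₀ ≤ finrank F V →
  (Nat.card {y : slV F V // ¬ MixY (((finrank F V : ℝ) ^ 2 * Real.log (Nat.card F)) ^ C) y} : ℝ) ≤
    ε * Nat.card (slV F V)

/-- RG-L21 (helper50): symplectic groups -/
def LSp : Prop := ∀ (ε : ℝ) (C : ℕ), 0 < ε → ∃ N₀ : ℕ, ∀ (F V : Type) [Field F] [Finite F] [AddCommGroup V]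
  [Module F V] [Module.Finite F V] (Φ : Frm F V), IsSp Φ → N₀ ≤ finrank F V →
  (Nat.card {y : Φ.Iso // ¬ MixY (((finrank F V : ℝ) ^ 2 * Real.log (Nat.card F)) ^ C) y} : ℝ) ≤
    ε * Nat.card Φ.Iso

/-- RG-L21 (helper50): unitary groups -/
def LSU : Prop := ∀ (ε : ℝ) (C : ℕ), 0 < ε → ∃ N₀ : ℕ, ∀ (F V : Type) [Field F] [Finite F] [AddCommGroup V]
  [Module F V] [Module.Finite F V] (r : ℕ) (Φ : Frm F V), IsHerm r Φ → N₀ ≤ finrank F V →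
  (Nat.card {y : ↥(Φ.Iso ⊓ slV F V) // ¬ MixY (((finrank F V : ℝ) ^ 2 * Real.log (Nat.card F)) ^ C) y} : ℝ) ≤
    ε * Nat.card ↥(Φ.Iso ⊓ slV F V)

/-- RG-L21 (helper50): orthogonal groups -/
def LOm : Prop := ∀ (ε : ℝ) (C : ℕ), 0 < ε → ∃ N₀ : ℕ, ∀ (F V : Type) [Field F] [Finite F] [AddCommGroup V]
  [Module F V] [Module.Finite F V] (Q : QuadraticForm F V), (frmQ Q).Nd → N₀ ≤ finrank F V →
  (Nat.card {y : E Q // ¬ MixY (((finrank F V : ℝ) ^ 2 * Real.log (Nat.card F)) ^ C) y} : ℝ) ≤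
    ε * Nat.card (E Q)

end Cfsg.Agent.H50.RG
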