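import Cfsg.Agent.H50.RG.Fin

/-!
# Typical elements of the classical groups of large rank (S5714, S5715)

* `Idx ε n q par M I` : the conditions on a set `I` of dimensions and the bound `M`; `exists_idx` (from `L20`);
* `noG_sl`, `noG_sp`, `noG_su`, `noG_om` : all but `ε |G|` elements of `G` have a good subspace of dimension `e ∈ I`;
* `fix_free` : the Frobenius trick for `Z`: `|Z| dim V^Z ≤ 2 dim V`; `fix_lin`, `fix_form`.
-/

set_option autoImplicit false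
set_option linter.unusedSectionVars false

namespace Cfsg.Agent.H50.RG

open Module Cfsg.Agent.H847.Bs Cfsg.Agent.LieClassical.OrthCore
open Cfsg.Agent.H440.Bs (perp mem_perp)

/-- admissible sets of dimensions -/
structure Idx (ε : ℝ) (n q par M : ℕ) (I : Finset ℕ) : Prop where
  two : 2 ≤ M
  mem : ∀ e ∈ I, 3 ≤ e ∧ e % 2 = par % 2 ∧ 4 * e + 8 ≤ n ∧ ¬ e ∣ (n - 1) / 2 ∧ ¬ e ∣ (n + 1) / 2 ∧
    16 * e * M ^ 2 ≤ q ^ e.totient ∧ ∑ j ∈ Finset.range n, 1 / (((j + 1) * e : ℕ) : ℝ) ≤ min (1 / 2) (ε / 16)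
  sum : 16 / ε ≤ ∑ e ∈ I, 1 / (2 * e : ℝ)

/-- the common part -/
theorem noG_common (h02 : L02) (h03 : L03) {ε : ℝ} (hε : 0 < ε) {par M : ℕ} {I : Finset ℕ}
    {F V : Type} [Field F] [Finite F] [AddCommGroup V] [Module F V] [Module.Finite F V]
    (hI : Idx ε (finrank F V) (Nat.card F) par M I)
    (G : Subgroup (V ≃ₗ[F] V)) (TS : Submodule F V → Prop) (k₀ : ℕ) (hk1 : k₀ ≤ finrank F V)
    (hk2 : (finrank F V - 3) / 2 ≤ k₀)
    (hh : ∀ A B, A ≤ B → TS B → TS A) (hFT : FT G TS k₀) (hex : ∃ A, TS A ∧ finrank F A = k₀)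
    (hT : ∀ g ∈ G, ∀ A, TS A → TS (A.map (g : V →ₗ[F] V)))
    (hH1 : ∀ y ∈ G, ∀ A A', TS A → TS A' → Irr y A → Irr y A' → finrank F A ≠ finrank F A' →
      finrank F A + finrank F A' < finrank F V → TS (A ⊔ A'))
    (hH2 : ∀ e, 3 ≤ e → e % 2 = par % 2 → 2 * e < finrank F V → ∀ y ∈ G, ∀ s : Finset (Submodule F V),
      (∀ A ∈ s, Gd TS e M y A) → s.card ≤ 2)
    (hH3 : ∀ e, ¬ e ∣ (finrank F V - 1) / 2 → ¬ e ∣ (finrank F V + 1) / 2 → ∀ B, TS B → e ∣ finrank F B →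
      finrank F B ≤ k₀) : (noG G TS M I : ℝ) ≤ ε * Nat.card G := by
  set η : ℝ := min (1 / 2) (ε / 16) with hηdef
  have hη0 : 0 < η := by positivity
  have hfin : Finite (V ≃ₗ[F] V) := finite_glV
  obtain ⟨hM2, hI, hK⟩ := hI
  set x : ℕ → ℝ := fun e => (Nat.card {g : GL (Fin e) F // IrrM F g ∧ BigM F e M g} : ℝ) / Nat.card (GL (Fin e) F)
    with hx
  have hGL : ∀ e, (0 : ℝ) < Nat.card (GL (Fin e) F) := fun e => by exact_mod_cast Nat.card_pos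
  have h1 := l01 F V G TS k₀ M I x η hh hFT hex hT
    (fun e he => by
      obtain ⟨a1, a2, a3, -⟩ := hI e he
      omega)
    (fun e he e' he' hne y hy A A' hA hA' hi hi' hd hd' => hH1 y hy A A' hA hA' hi hi' (by omega) (by
      obtain ⟨a1, a2, a3, -⟩ := hI e he
      obtain ⟨b1, b2, b3, -⟩ := hI e' he'
      omega))
    (fun e he y hy s hs => by
      obtain ⟨a1, a2, a3, -⟩ := hI e he
      exact hH2 e a1 a2 (by omega) y hy s hs)
    (fun e he B hB hdiv => by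
      obtain ⟨a1, a2, a3, a5, a6, -⟩ := hI e he
      exact hH3 e a5 a6 B hB hdiv)
    (fun d hd => h02 F d hd)
    (fun e he => by
      rw [hx]
      exact div_mul_cancel₀ _ (hGL e).ne')
    hη0.le
    (fun e he => by
      obtain ⟨a1, a2, a3, a5, a6, a7, a8⟩ := hI e he
      refine le_trans (Finset.sum_le_sum_of_subset_of_nonneg (Finset.range_mono hk1) fun i _ _ => ?_) a8
      positivity)
    ((min_le_left _ _).trans (by norm_num))
  have hS : 16 / ε ≤ ∑ e ∈ I, x e := by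
    refine hK.trans (Finset.sum_le_sum fun e he => ?_)
    obtain ⟨a1, a2, a3, a5, a6, a7, a8⟩ := hI e he
    have h2 := h03 F e M a1 hM2 a7
    have h3 : (Nat.card (GL (Fin e) F) : ℝ) ≤ 2 * e * Nat.card {g : GL (Fin e) F // IrrM F g ∧ BigM F e M g} := by
      exact_mod_cast h2
    have he0 : (0 : ℝ) < e := by exact_mod_cast (show 0 < e by omega)
    rw [hx]
    rw [div_le_div_iff₀ (by positivity) (hGL e)]
    linarith
  exact num_fin hε (Nat.cast_nonneg _) (Nat.cast_nonneg _) hη0.le (min_le_left _ _) (by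
    have : η ≤ ε / 16 := min_le_right _ _
    linarith) hS h1

section

variable {ε : ℝ} {par M : ℕ} {I : Finset ℕ} {F V : Type} [Field F] [Finite F] [AddCommGroup V] [Module F V]
  [Module.Finite F V]

/-- linear groups -/
theorem noG_sl (h02 : L02) (h03 : L03) (h04 : L04) (h12 : L12) (hε : 0 < ε)
    (hI : Idx ε (finrank F V) (Nat.card F) par M I) (hV : 1 ≤ finrank F V) :
    (noG (slV F V) (Prp F V) M I : ℝ) ≤ ε * Nat.card (slV F V) := by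
  refine noG_common h02 h03 hε hI (slV F V) (Prp F V) (finrank F V - 1) (by omega) (by omega)
    (fun A B hAB hB => (Submodule.finrank_mono hAB).trans_lt hB) (h04 F V hV) ?_ ?_ ?_ ?_ ?_
  · obtain ⟨A, hA⟩ := exists_sub (F := F) (V := V) (k := finrank F V - 1) (by omega)
    exact ⟨A, by unfold Prp; omega, hA⟩
  · intro g _ A hA
    unfold Prp at hA ⊢
    rwa [LinearEquiv.finrank_map_eq]
  · intro y _ A A' _ _ _ _ _ hlt
    exact (Submodule.finrank_add_le_finrank_add_finrank A A').trans_lt hlt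
  · intro e he _ hlt y _ s hs
    exact (h12 F V e M (by omega) hlt y s hs).trans (by omega)
  · intro e _ _ B hB _
    unfold Prp at hB
    omega

/-- groups of isometries -/
theorem noG_form (h02 : L02) (h03 : L03) (h08 : L08) (h09 : L09) (h11 : L11) (hε : 0 < ε)
    (hI : Idx ε (finrank F V) (Nat.card F) par M I) (Φ : Frm F V) (G : Subgroup (V ≃ₗ[F] V)) (hn : 10 ≤ finrank F V)
    (hG : G ≤ Φ.Iso)
    (hty : IsSp Φ ∨ (∃ r, IsHerm r Φ) ∨ (∃ Q : QuadraticForm F V, (frmQ Q).Nd ∧ Φ = frmQ Q))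
    (hcls : ∀ e, 3 ≤ e → e % 2 = par % 2 → Cls Φ e) (hFT : ∀ k₀, 2 * k₀ + 3 ≤ finrank F V → FT G Φ.TI k₀) :
    (noG G Φ.TI M I : ℝ) ≤ ε * Nat.card G := by
  have hNd : Φ.Nd := (hcls (3 + (par + 1) % 2) (by omega) (by omega)).1
  obtain ⟨hex, hbd⟩ := h08 F V Φ hty
  have hM : 2 ≤ M := hI.two
  refine noG_common h02 h03 hε hI G Φ.TI ((finrank F V - 3) / 2) (by omega) le_rfl (fun A B hAB hB => ti_mono hAB hB)
    (hFT _ (by omega)) (hex _ (by omega)) (fun g hg A hA => ti_map (hG hg) hA) ?_ ?_ ?_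
  · intro y hy A A' hA hA' hi hi' hne _
    exact h09 F V Φ hNd y (hG hy) A A' hA hA' hi hi' hne
  · intro e he hpar _ y hy s hs
    exact h11 F V Φ e M (hcls e he hpar) hM y (hG hy) s hs
  · intro e h1 h2 B hB hdiv
    have h3 := hbd B hB
    by_contra hlt
    have h4 : finrank F B = (finrank F V - 1) / 2 ∨ finrank F B = (finrank F V + 1) / 2 := by omega
    rcases h4 with h4 | h4
    · exact h1 (h4 ▸ hdiv)
    · exact h2 (h4 ▸ hdiv)

/-- symplectic groups -/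
theorem noG_sp (h02 : L02) (h03 : L03) (h05 : L05) (h08 : L08) (h09 : L09) (h11 : L11) (hε : 0 < ε)
    (hI : Idx ε (finrank F V) (Nat.card F) 1 M I) (hn : 10 ≤ finrank F V) (Φ : Frm F V) (hΦ : IsSp Φ) :
    (noG Φ.Iso Φ.TI M I : ℝ) ≤ ε * Nat.card Φ.Iso :=
  noG_form h02 h03 h08 h09 h11 hε hI Φ Φ.Iso hn le_rfl (Or.inl hΦ)
    (fun _ _ hpar => ⟨hΦ.nd, by omega, Or.inl ⟨hΦ, Nat.odd_iff.2 hpar⟩⟩) (h05 F V Φ hΦ)

/-- unitary groups -/
theorem noG_su (h02 : L02) (h03 : L03) (h06 : L06) (h08 : L08) (h09 : L09) (h11 : L11) (hε : 0 < ε)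
    (hI : Idx ε (finrank F V) (Nat.card F) 0 M I) (hn : 10 ≤ finrank F V) (r : ℕ) (Φ : Frm F V) (hΦ : IsHerm r Φ) :
    (noG (Φ.Iso ⊓ slV F V) Φ.TI M I : ℝ) ≤ ε * Nat.card ↥(Φ.Iso ⊓ slV F V) :=
  noG_form h02 h03 h08 h09 h11 hε hI Φ (Φ.Iso ⊓ slV F V) hn inf_le_left (Or.inr (Or.inl ⟨r, hΦ⟩))
    (fun _ _ hpar => ⟨hΦ.nd, by omega, Or.inr (Or.inl ⟨r, hΦ, Nat.even_iff.2 hpar⟩)⟩) (h06 F V r Φ hΦ)

theorem e_le_iso (Q : QuadraticForm F V) : E Q ≤ (frmQ Q).Iso := by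
  intro g hg
  have hO := E_le_O hg
  refine ⟨fun x y => ?_, fun x => hO x⟩
  show QuadraticMap.polar Q (g x) (g y) = QuadraticMap.polar Q x y
  unfold QuadraticMap.polar
  rw [← map_add, hO, hO, hO]

/-- orthogonal groups -/
theorem noG_om (h02 : L02) (h03 : L03) (h07 : L07) (h08 : L08) (h09 : L09) (h11 : L11) (hε : 0 < ε)
    (hI : Idx ε (finrank F V) (Nat.card F) 1 M I) (hn : 10 ≤ finrank F V) (Q : QuadraticForm F V)
    (hQ : (frmQ Q).Nd) : (noG (E Q) (frmQ Q).TI M I : ℝ) ≤ ε * Nat.card (E Q) :=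
  noG_form h02 h03 h08 h09 h11 hε hI (frmQ Q) (E Q) hn (e_le_iso Q) (Or.inr (Or.inr ⟨Q, hQ, rfl⟩))
    (fun _ _ hpar => ⟨hQ, by omega, Or.inr (Or.inr ⟨Q, rfl, Nat.odd_iff.2 hpar⟩)⟩) (h07 F V Q hQ)

end

/-! ### the Frobenius trick for `Z` -/

/-- `Z` acts freely on two subgroups generating `G`: `|Z| dim V^Z ≤ 2 dim V` -/
theorem fix_free {A : Type*} [Group A] [Finite A] {G Z Q₁ Q₂ : Subgroup A} (hZG : Z ≤ G)
    (h1 : Free Z Q₁) (h2 : Free Z Q₂) (hgen : Q₁ ⊔ Q₂ = G) (n : ℕ) (ρ : Representation ℂ G (Fin n → ℂ))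
    (h0 : fixd ρ ⊤ = ⊥) : Nat.card Z * finrank ℂ (fixd ρ (Z.subgroupOf G)) ≤ 2 * n := by
  have hQ1 : Q₁ ≤ G := le_sup_left.trans hgen.le
  have hQ2 : Q₂ ≤ G := le_sup_right.trans hgen.le
  have hF : ∀ {Q : Subgroup A}, Free Z Q → (∀ z ∈ Z.subgroupOf G, ∀ q ∈ Q.subgroupOf G, z * q * z⁻¹ ∈ Q.subgroupOf G) ∧
      ∀ z ∈ Z.subgroupOf G, z ≠ 1 → ∀ q ∈ Q.subgroupOf G, z * q = q * z → q = 1 := by
    rintro Q ⟨ha, hb⟩
    refine ⟨fun z hz q hq => ?_, fun z hz hz1 q hq hc => ?_⟩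
    · rw [Subgroup.mem_subgroupOf] at hz hq ⊢
      exact ha _ hz _ hq
    · rw [Subgroup.mem_subgroupOf] at hz hq
      have h3 : (z : A) ≠ 1 := fun h => hz1 (Subtype.ext h)
      have h4 : (z : A) * q = q * z := congrArg Subtype.val hc
      exact Subtype.ext (hb _ hz h3 _ hq (by rw [h4, mul_inv_cancel_right]))
  obtain ⟨ha1, hb1⟩ := hF h1
  obtain ⟨ha2, hb2⟩ := hF h2
  have key := frob_trick ρ (Z.subgroupOf G) (Q₁.subgroupOf G) (Q₂.subgroupOf G) ha1 hb1 ha2 hb2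
    (by rw [← Subgroup.subgroupOf_sup hQ1 hQ2, hgen, Subgroup.subgroupOf_self]) h0
  rwa [Nat.card_congr (Subgroup.subgroupOfEquivOfLe hZG).toEquiv, Module.finrank_fintype_fun_eq_card,
    Fintype.card_fin] at key

section

variable {F V : Type} [Field F] [Finite F] [AddCommGroup V] [Module F V] [Module.Finite F V]

/-- a group `Z` of isometries in the form given by `L14` acts freely on the two radicals -/
theorem free_form (h15 : L15) {Φ : Frm F V} {G : Subgroup (V ≃ₗ[F] V)} (hG : G ≤ Φ.Iso) {e : ℕ} (hΦ : Cls Φ e)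
    {Z : Subgroup (V ≃ₗ[F] V)} {A A' C : Submodule F V} (hd : finrank F A = e) (hZG : Z ≤ G) (hO : Opp Φ A A' C)
    (hZ1 : ∀ z ∈ Z, (∀ c ∈ C, z c = c) ∧ Inv z A ∧ Inv z A')
    (hZ2 : ∀ z ∈ Z, z ≠ 1 → (∀ W ≤ A, Inv z W → W = ⊥ ∨ W = A) ∧ (∀ a ∈ A, z a = a → a = 0) ∧
      (∀ W ≤ A', Inv z W → W = ⊥ ∨ W = A') ∧ (∀ a ∈ A', z a = a → a = 0) ∧
      ∃ r : ℕ, r.Prime ∧ r ∣ orderOf z ∧ orderOf ((Nat.card F : ℕ) : ZMod r) = e) :
    Free Z (G ⊓ RadG Φ A) ∧ Free Z (G ⊓ RadG Φ A') := by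
  constructor
  · refine ⟨fun z hz g hg => ?_, fun z hz hz1 g hg hc => ?_⟩
    · exact Subgroup.mem_inf.2 ⟨G.mul_mem (G.mul_mem (hZG hz) hg.1) (G.inv_mem (hZG hz)),
        rad_conj (hG (hZG hz)) (hZ1 z hz).2.1 (hZ1 z⁻¹ (inv_mem hz)).2.1 hg.2⟩
    · obtain ⟨h1, h2, h3, h4, h5⟩ := hZ2 z hz hz1
      exact h15 F V Φ e A A' C hΦ hd hO z (hG (hZG hz)) (hZ1 z hz).1 (hZ1 z hz).2.1 (hZ1 z hz).2.2 h1 h2 h3 h4
        h5 g hg.2 hc
  · refine ⟨fun z hz g hg => ?_, fun z hz hz1 g hg hc => ?_⟩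
    · exact Subgroup.mem_inf.2 ⟨G.mul_mem (G.mul_mem (hZG hz) hg.1) (G.inv_mem (hZG hz)),
        rad_conj (hG (hZG hz)) (hZ1 z hz).2.2 (hZ1 z⁻¹ (inv_mem hz)).2.2 hg.2⟩
    · obtain ⟨h1, h2, h3, h4, h5⟩ := hZ2 z hz hz1
      exact h15 F V Φ e A' A C hΦ (by rw [← hO.dim]; exact hd) hO.symm z (hG (hZG hz)) (hZ1 z hz).1
        (hZ1 z hz).2.2 (hZ1 z hz).2.1 h3 h4 h1 h2 h5 g hg.2 hc

end

end Cfsg.Agent.H50.RG
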