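import Mathlib

/-!
# S5714 (random generation): fixed points of a subgroup acting freely on two subgroups

* `avg ρ S` : the average of `ρ` over the subgroup `S`, a projection onto the fixed space `fixd ρ S`;
* `card_mul_fix` : if `Z` normalizes `Q` and acts freely on it, `|Z| (dim V^Z - dim (V^Z ∩ V^Q)) = dim V - dim V^Q`;
* `frob_trick` : if `Z` acts freely on `Q₁` and `Q₂`, which generate `G`, and `V^G = 0`, then `|Z| dim V^Z ≤ 2 dim V`.
-/

set_option autoImplicit false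

namespace Cfsg.Agent.H50.RG

open Module

variable {G V : Type*} [Group G] [AddCommGroup V] [Module ℂ V] (ρ : Representation ℂ G V)

/-- the fixed space of a subgroup -/
def fixd (S : Subgroup G) : Submodule ℂ V where
  carrier := {v | ∀ g ∈ S, ρ g v = v}
  zero_mem' := fun g _ => map_zero _
  add_mem' := fun {a b} ha hb g hg => by rw [map_add, ha g hg, hb g hg]
  smul_mem' := fun c v hv g hg => by rw [map_smul, hv g hg]

theorem mem_fixd {S : Subgroup G} {v : V} : v ∈ fixd ρ S ↔ ∀ g ∈ S, ρ g v = v := Iff.rfl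

theorem fixd_anti {S T : Subgroup G} (h : S ≤ T) : fixd ρ T ≤ fixd ρ S := fun _ hv g hg => hv g (h hg)

theorem fixd_sup (S T : Subgroup G) : fixd ρ (S ⊔ T) = fixd ρ S ⊓ fixd ρ T := by
  apply le_antisymm
  · exact le_inf (fixd_anti ρ le_sup_left) (fixd_anti ρ le_sup_right)
  · rintro v ⟨h1, h2⟩
    have : S ⊔ T ≤ ({ carrier := {g | ρ g v = v}
                      one_mem' := by simp
                      mul_mem' := fun {a b} ha hb => by
                        show ρ (a * b) v = v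
                        rw [map_mul, Module.End.mul_apply, show ρ b v = v from hb, show ρ a v = v from ha]
                      inv_mem' := fun {a} ha => by
                        show ρ a⁻¹ v = v
                        have h : ρ a v = v := ha
                        conv_lhs => rw [← h]
                        rw [← Module.End.mul_apply, ← map_mul, inv_mul_cancel, map_one, Module.End.one_apply] } :
                      Subgroup G) := by
      rw [sup_le_iff]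
      exact ⟨fun g hg => h1 g hg, fun g hg => h2 g hg⟩
    exact fun g hg => this hg

variable [Finite G]

/-- the average over a subgroup -/
noncomputable def avg (S : Subgroup G) : V →ₗ[ℂ] V :=
  haveI := Fintype.ofFinite S
  (Nat.card S : ℂ)⁻¹ • ∑ s : S, ρ s

theorem card_ne (S : Subgroup G) : (Nat.card S : ℂ) ≠ 0 := by exact_mod_cast (Nat.card_pos (α := S)).ne'

theorem avg_apply (S : Subgroup G) [Fintype S] (v : V) :
    avg ρ S v = (Nat.card S : ℂ)⁻¹ • ∑ s : S, ρ s v := by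
  have : (Fintype.ofFinite S) = ‹Fintype S› := Subsingleton.elim _ _
  unfold avg
  rw [this, LinearMap.smul_apply, LinearMap.sum_apply]

theorem avg_mem (S : Subgroup G) (v : V) : avg ρ S v ∈ fixd ρ S := by
  have := Fintype.ofFinite S
  intro g hg
  rw [avg_apply, map_smul, map_sum]
  congr 1
  have : ∀ s : S, ρ g (ρ s v) = ρ ((⟨g, hg⟩ * s : S) : G) v := fun s => by
    rw [← Module.End.mul_apply, ← map_mul]; rfl
  simp only [this]
  exact Fintype.sum_equiv (Equiv.mulLeft (⟨g, hg⟩ : S)) _ _ fun s => rfl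

theorem avg_of_mem (S : Subgroup G) {v : V} (hv : v ∈ fixd ρ S) : avg ρ S v = v := by
  have := Fintype.ofFinite S
  rw [avg_apply, Finset.sum_congr rfl fun (s : S) _ => hv s s.2, Finset.sum_const, Finset.card_univ,
    ← Nat.card_eq_fintype_card, ← Nat.cast_smul_eq_nsmul ℂ, smul_smul, inv_mul_cancel₀ (card_ne S), one_smul]

theorem isProj_avg (S : Subgroup G) : LinearMap.IsProj (fixd ρ S) (avg ρ S) :=
  ⟨avg_mem ρ S, fun _ hv => avg_of_mem ρ S hv⟩

theorem trace_avg [FiniteDimensional ℂ V] (S : Subgroup G) :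
    LinearMap.trace ℂ V (avg ρ S) = finrank ℂ (fixd ρ S) := (isProj_avg ρ S).trace

section free

variable (Z Q : Subgroup G) (hn : ∀ z ∈ Z, ∀ q ∈ Q, z * q * z⁻¹ ∈ Q)
  (hf : ∀ z ∈ Z, z ≠ 1 → ∀ q ∈ Q, z * q = q * z → q = 1)

include hn

theorem comm_avg {z : G} (hz : z ∈ Z) (v : V) : ρ z (avg ρ Q v) = avg ρ Q (ρ z v) := by
  have := Fintype.ofFinite Q
  rw [avg_apply, avg_apply, map_smul, map_sum]
  congr 1
  have hn' : ∀ q : Q, z⁻¹ * q * z ∈ Q := fun q => by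
    have := hn z⁻¹ (Z.inv_mem hz) q q.2
    rwa [inv_inv] at this
  let e : Q ≃ Q :=
    { toFun := fun q => ⟨z * q * z⁻¹, hn z hz q q.2⟩
      invFun := fun q => ⟨z⁻¹ * q * z, hn' q⟩
      left_inv := fun q => Subtype.ext (by
        change z⁻¹ * (z * q * z⁻¹) * z = q
        group)
      right_inv := fun q => Subtype.ext (by
        change z * (z⁻¹ * q * z) * z⁻¹ = q
        group) }
  refine Fintype.sum_equiv e _ _ fun q => ?_
  rw [← Module.End.mul_apply, ← Module.End.mul_apply, ← map_mul, ← map_mul]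
  congr 2
  change z * q = z * q * z⁻¹ * z
  group

theorem avg_comp : LinearMap.IsProj (fixd ρ Z ⊓ fixd ρ Q) (avg ρ Z ∘ₗ avg ρ Q) := by
  have := Fintype.ofFinite Z
  constructor
  · intro v
    refine ⟨avg_mem ρ Z _, ?_⟩
    -- the average over `Z` of a `Q`-fixed vector is `Q`-fixed
    intro q hq
    rw [LinearMap.comp_apply, avg_apply ρ Z, map_smul, map_sum]
    congr 1
    refine Finset.sum_congr rfl fun z _ => ?_
    rw [comm_avg ρ Z Q hn z.2]
    exact avg_mem ρ Q _ q hq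
  · rintro v ⟨h1, h2⟩
    rw [LinearMap.comp_apply, avg_of_mem ρ Q h2, avg_of_mem ρ Z h1]

include hf

omit [Finite G] hn in
theorem char_coset [FiniteDimensional ℂ V] (hn : ∀ z ∈ Z, ∀ q ∈ Q, z * q * z⁻¹ ∈ Q) [Finite G] {z : G} (hz : z ∈ Z)
    (hz1 : z ≠ 1) {q : G} (hq : q ∈ Q) :
    LinearMap.trace ℂ V (ρ (z * q)) = LinearMap.trace ℂ V (ρ z) := by
  -- `z q` is conjugate to `z`
  have hinj : Function.Injective fun x : Q => (⟨z⁻¹ * x⁻¹ * z * x, by
      refine Q.mul_mem ?_ x.2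
      have := hn z⁻¹ (Z.inv_mem hz) (x⁻¹ : G) (Q.inv_mem x.2)
      rwa [inv_inv] at this⟩ : Q) := by
    intro x y hxy
    have h1 : z⁻¹ * (x : G)⁻¹ * z * x = z⁻¹ * (y : G)⁻¹ * z * y := congrArg Subtype.val hxy
    have h2 : z * ((y : G) * (x : G)⁻¹) = ((y : G) * (x : G)⁻¹) * z := by
      have h3 : (x : G)⁻¹ * z * x = (y : G)⁻¹ * z * y := by
        have := congrArg (fun g => z * g) h1
        simpa [mul_assoc] using this
      calc z * ((y : G) * (x : G)⁻¹) = y * ((y : G)⁻¹ * z * y) * (x : G)⁻¹ := by group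
        _ = y * ((x : G)⁻¹ * z * x) * (x : G)⁻¹ := by rw [h3]
        _ = ((y : G) * (x : G)⁻¹) * z := by group
    have h3 := hf z hz hz1 _ (Q.mul_mem y.2 (Q.inv_mem x.2)) h2
    exact Subtype.ext (mul_inv_eq_one.1 h3).symm
  obtain ⟨x, hx⟩ := (Finite.injective_iff_surjective.1 hinj) ⟨q, hq⟩
  have hx' : z⁻¹ * (x : G)⁻¹ * z * x = q := congrArg Subtype.val hx
  have h4 : z * q = (x : G)⁻¹ * z * x := by rw [← hx']; group
  rw [h4, map_mul, LinearMap.trace_mul_comm, ← map_mul]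
  congr 2
  group

/-- the trace of `ρ z ∘ avg Q` for `z ≠ 1` -/
theorem trace_comp_avg [FiniteDimensional ℂ V] {z : G} (hz : z ∈ Z) (hz1 : z ≠ 1) :
    LinearMap.trace ℂ V (ρ z ∘ₗ avg ρ Q) = LinearMap.trace ℂ V (ρ z) := by
  have := Fintype.ofFinite Q
  have h1 : ρ z ∘ₗ avg ρ Q = (Nat.card Q : ℂ)⁻¹ • ∑ q : Q, ρ (z * q) := by
    ext v
    rw [LinearMap.comp_apply, avg_apply, map_smul, map_sum, LinearMap.smul_apply, LinearMap.sum_apply]
    congr 1
    refine Finset.sum_congr rfl fun q _ => ?_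
    rw [map_mul]; rfl
  rw [h1, map_smul, map_sum, Finset.sum_congr rfl fun (q : Q) _ => char_coset ρ Z Q hf hn hz hz1 q.2, Finset.sum_const,
    Finset.card_univ, ← Nat.card_eq_fintype_card, ← Nat.cast_smul_eq_nsmul ℂ, smul_smul,
    inv_mul_cancel₀ (card_ne Q), one_smul]

/-- **A free action**: `|Z| (dim V^Z - dim (V^Z ∩ V^Q)) = dim V - dim V^Q`. -/
theorem card_mul_fix [FiniteDimensional ℂ V] :
    Nat.card Z * finrank ℂ (fixd ρ Z) + finrank ℂ (fixd ρ Q) =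
      Nat.card Z * finrank ℂ ↥(fixd ρ Z ⊓ fixd ρ Q) + finrank ℂ V := by
  have := Fintype.ofFinite Z
  classical
  have hC : (Nat.card Z : ℂ) ≠ 0 := card_ne Z
  have h1 := trace_avg ρ Z
  have h2 := (avg_comp ρ Z Q hn).trace
  have e1 : (Nat.card Z : ℂ) • avg ρ Z = ∑ z : Z, ρ z := by
    ext v
    rw [LinearMap.smul_apply, avg_apply, smul_smul, mul_inv_cancel₀ hC, one_smul, LinearMap.sum_apply]
  have e2 : (Nat.card Z : ℂ) • (avg ρ Z ∘ₗ avg ρ Q) = ∑ z : Z, ρ z ∘ₗ avg ρ Q := by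
    rw [← LinearMap.smul_comp, e1]
    ext v
    rw [LinearMap.comp_apply, LinearMap.sum_apply, LinearMap.sum_apply]; rfl
  have t1 : (Nat.card Z : ℂ) * finrank ℂ (fixd ρ Z) = ∑ z : Z, LinearMap.trace ℂ V (ρ z) := by
    rw [← h1, ← map_sum, ← e1, map_smul, smul_eq_mul]
  have t2 : (Nat.card Z : ℂ) * finrank ℂ ↥(fixd ρ Z ⊓ fixd ρ Q) = ∑ z : Z, LinearMap.trace ℂ V (ρ z ∘ₗ avg ρ Q) := by
    rw [← h2, ← map_sum, ← e2, map_smul, smul_eq_mul]
  have t3 : ∑ z : Z, LinearMap.trace ℂ V (ρ z) = LinearMap.trace ℂ V (ρ (1 : G)) +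
      ∑ z ∈ Finset.univ.erase (1 : Z), LinearMap.trace ℂ V (ρ z) := by
    rw [← Finset.add_sum_erase _ _ (Finset.mem_univ (1 : Z))]; rfl
  have t4 : ∑ z : Z, LinearMap.trace ℂ V (ρ z ∘ₗ avg ρ Q) = LinearMap.trace ℂ V (ρ (1 : G) ∘ₗ avg ρ Q) +
      ∑ z ∈ Finset.univ.erase (1 : Z), LinearMap.trace ℂ V (ρ z) := by
    rw [← Finset.add_sum_erase _ _ (Finset.mem_univ (1 : Z))]
    congr 1
    refine Finset.sum_congr rfl fun z hz => ?_
    exact trace_comp_avg ρ Z Q hn hf z.2 fun h => (Finset.mem_erase.1 hz).1 (Subtype.ext h)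
  have t5 : LinearMap.trace ℂ V (ρ (1 : G)) = finrank ℂ V := by
    rw [map_one]; exact LinearMap.trace_one ℂ V
  have t6 : LinearMap.trace ℂ V (ρ (1 : G) ∘ₗ avg ρ Q) = finrank ℂ (fixd ρ Q) := by
    rw [map_one, ← trace_avg]; rfl
  have : ((Nat.card Z * finrank ℂ (fixd ρ Z) + finrank ℂ (fixd ρ Q) : ℕ) : ℂ) =
      ((Nat.card Z * finrank ℂ ↥(fixd ρ Z ⊓ fixd ρ Q) + finrank ℂ V : ℕ) : ℂ) := by
    push_cast
    rw [t1, t2, t3, t4, t5, t6]
    ring
  exact_mod_cast this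

end free

/-- **The Frobenius trick.** -/
theorem frob_trick [FiniteDimensional ℂ V] (Z Q₁ Q₂ : Subgroup G) (hn₁ : ∀ z ∈ Z, ∀ q ∈ Q₁, z * q * z⁻¹ ∈ Q₁)
    (hf₁ : ∀ z ∈ Z, z ≠ 1 → ∀ q ∈ Q₁, z * q = q * z → q = 1) (hn₂ : ∀ z ∈ Z, ∀ q ∈ Q₂, z * q * z⁻¹ ∈ Q₂)
    (hf₂ : ∀ z ∈ Z, z ≠ 1 → ∀ q ∈ Q₂, z * q = q * z → q = 1) (hgen : Q₁ ⊔ Q₂ = ⊤) (h0 : fixd ρ ⊤ = ⊥) :
    Nat.card Z * finrank ℂ (fixd ρ Z) ≤ 2 * finrank ℂ V := by
  have h1 := card_mul_fix ρ Z Q₁ hn₁ hf₁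
  have h2 := card_mul_fix ρ Z Q₂ hn₂ hf₂
  have h3 : finrank ℂ ↥(fixd ρ Z ⊓ fixd ρ Q₁) + finrank ℂ ↥(fixd ρ Z ⊓ fixd ρ Q₂) ≤ finrank ℂ (fixd ρ Z) := by
    have h4 := Submodule.finrank_sup_add_finrank_inf_eq (fixd ρ Z ⊓ fixd ρ Q₁) (fixd ρ Z ⊓ fixd ρ Q₂)
    have h5 : (fixd ρ Z ⊓ fixd ρ Q₁) ⊓ (fixd ρ Z ⊓ fixd ρ Q₂) = ⊥ := by
      rw [eq_bot_iff]
      calc (fixd ρ Z ⊓ fixd ρ Q₁) ⊓ (fixd ρ Z ⊓ fixd ρ Q₂) ≤ fixd ρ Q₁ ⊓ fixd ρ Q₂ :=
            inf_le_inf inf_le_right inf_le_right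
        _ = ⊥ := by rw [← fixd_sup, hgen, h0]
    rw [h5, finrank_bot, add_zero] at h4
    rw [← h4]
    exact Submodule.finrank_mono (sup_le inf_le_left inf_le_left)
  have h6 := Nat.mul_le_mul_left (Nat.card Z) h3
  rw [Nat.mul_add] at h6
  omega

end Cfsg.Agent.H50.RG
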