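import Cfsg.Agent.H50.RG.Frob
import Cfsg.Agent.H847.Bs.Defs2
import Cfsg.Agent.H440.Bs.FrmL

/-!
# S5714, layer L (classical groups of large rank, any field): definitions

`G ≤ GL(V)` is one of `slV F V`, `Φ.Iso` (symplectic), `Φ.Iso ⊓ slV F V` (hermitian), `E Q` (quadratic);
`TS` is `fun A => finrank A < finrank V` (linear case) or `Φ.TI`.

* `MixY M y` : `M dim V^⟨y⟩ ≤ 2 dim V` for all complex representations `V` of `T` with `V^T = 0`;
* `FT G TS k₀` : transitivity on `TS`-frames of size at most `k₀`;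
* `BigOn e M y A` : the order of `y` on `A` has a divisor `m ≥ M`, all prime divisors `r` of which satisfy `ord_r(|F|) = e`;
* `Gd TS e M y A` : `A` is an irreducible `y`-invariant `TS`-subspace of dimension `e` with `BigOn`, and no irreducible
  `y`-section `B / A`, `B` a `TS`-subspace, has dimension divisible by `e`;
* `HomS A` (linear case), `RadG Φ A` : the unipotent radicals; `Opp Φ A A' C` : opposite pairs;
* `IrrM`, `BigM` : irreducible matrices, matrices of order with a large primitive part.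
-/

set_option autoImplicit false

namespace Cfsg.Agent.H50.RG

open Module Cfsg.Agent.H847.Bs
open Cfsg.Agent.H440.Bs (perp mem_perp)

/-- `M dim V^⟨y⟩ ≤ 2 dim V` for all complex representations `V` of `T` without fixed vectors -/
def MixY {T : Type*} [Group T] (M : ℝ) (y : T) : Prop :=
  ∀ (n : ℕ) (ρ : Representation ℂ T (Fin n → ℂ)), fixd ρ ⊤ = ⊥ →
    M * finrank ℂ (fixd ρ (Subgroup.zpowers y)) ≤ 2 * n

section

variable {F V : Type*} [Field F] [AddCommGroup V] [Module F V]

/-- transitivity on the linearly independent `k`-tuples spanning a subspace with `TS`, for all `k ≤ k₀` -/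
def FT (G : Subgroup (V ≃ₗ[F] V)) (TS : Submodule F V → Prop) (k₀ : ℕ) : Prop :=
  ∀ k ≤ k₀, ∀ b b' : Fin k → V, LinearIndependent F b → LinearIndependent F b' →
    TS (Submodule.span F (Set.range b)) → TS (Submodule.span F (Set.range b')) → ∃ g ∈ G, ∀ i, g (b i) = b' i

/-- the order of `y` on `A` has a divisor `m ≥ M`, all prime divisors `r` of which satisfy `ord_r(|F|) = e` -/
def BigOn (e M : ℕ) (y : V ≃ₗ[F] V) (A : Submodule F V) : Prop :=
  ∃ m : ℕ, M ≤ m ∧ (∀ r : ℕ, r.Prime → r ∣ m → orderOf ((Nat.card F : ℕ) : ZMod r) = e) ∧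
    ∀ k : ℕ, (∀ a ∈ A, (y ^ k) a = a) → m ∣ k

/-- good subspaces -/
structure Gd (TS : Submodule F V → Prop) (e M : ℕ) (y : V ≃ₗ[F] V) (A : Submodule F V) : Prop where
  ts : TS A
  dim : finrank F A = e
  irr : Irr y A
  big : BigOn e M y A
  no : ∀ B, TS B → Inv y B → A < B → (∀ C, Inv y C → A ≤ C → C ≤ B → C = A ∨ C = B) → ¬ e ∣ finrank F B

/-- the unipotent radical of the stabiliser of `A` (linear case): `g x - x ∈ A` for all `x`, `g = 1` on `A` -/
def HomS (A : Submodule F V) : Subgroup (V ≃ₗ[F] V) where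
  carrier := {g | (∀ x, g x - x ∈ A) ∧ ∀ a ∈ A, g a = a}
  mul_mem' := by
    rintro g h ⟨hg1, hg2⟩ ⟨hh1, hh2⟩
    refine ⟨fun x => ?_, fun a ha => ?_⟩
    · show g (h x) - x ∈ A
      have h1 : g (h x) - x = (g (h x) - h x) + (h x - x) := by abel
      rw [h1]
      exact A.add_mem (hg1 _) (hh1 _)
    · show g (h a) = a
      rw [hh2 a ha, hg2 a ha]
  one_mem' := ⟨fun x => by simp, fun _ _ => rfl⟩
  inv_mem' := by
    rintro g ⟨hg1, hg2⟩
    have h : ∀ x, g (g⁻¹ x) = x := fun x => g.apply_symm_apply x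
    have h' : ∀ x, g⁻¹ (g x) = x := fun x => g.symm_apply_apply x
    refine ⟨fun x => ?_, fun a ha => ?_⟩
    · have h1 := hg1 (g⁻¹ x)
      rw [h] at h1
      have h2 : g⁻¹ x - x = -(x - g⁻¹ x) := by abel
      rw [h2]
      exact A.neg_mem h1
    · conv_lhs => rw [← hg2 a ha]
      exact h' a

variable (Φ : Frm F V)

/-- the unipotent radical of the stabiliser of `A` in the isometry group: the isometries acting trivially on
`A`, `A^⊥ / A` and `V / A^⊥` -/
def RadG (A : Submodule F V) : Subgroup (V ≃ₗ[F] V) where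
  carrier := {g | g ∈ Φ.Iso ∧ (∀ x, g x - x ∈ perp Φ A) ∧ (∀ x ∈ perp Φ A, g x - x ∈ A) ∧ ∀ a ∈ A, g a = a}
  mul_mem' := by
    rintro g h ⟨hg0, hg1, hg2, hg3⟩ ⟨hh0, hh1, hh2, hh3⟩
    have e : ∀ x, (g * h) x - x = (g (h x) - h x) + (h x - x) := fun x => by
      show g (h x) - x = _
      abel
    refine ⟨mul_mem hg0 hh0, fun x => ?_, fun x hx => ?_, fun a ha => ?_⟩
    · rw [e]
      exact (perp Φ A).add_mem (hg1 _) (hh1 _)
    · rw [e]
      refine A.add_mem (hg2 _ fun a ha => ?_) (hh2 _ hx)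
      rw [← hh3 a ha, hh0.1]
      exact hx a ha
    · show g (h a) = a
      rw [hh3 a ha, hg3 a ha]
  one_mem' := ⟨one_mem _, fun x => by simp, fun x _ => by simp, fun _ _ => rfl⟩
  inv_mem' := by
    rintro g ⟨hg0, hg1, hg2, hg3⟩
    have h : ∀ x, g (g⁻¹ x) = x := fun x => g.apply_symm_apply x
    have h' : ∀ x, g⁻¹ (g x) = x := fun x => g.symm_apply_apply x
    have e : ∀ x, g⁻¹ x - x = -(g (g⁻¹ x) - g⁻¹ x) := fun x => by rw [h]; abel
    have h3 : ∀ a ∈ A, g⁻¹ a = a := fun a ha => by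
      conv_lhs => rw [← hg3 a ha]
      exact h' a
    have hi := inv_mem hg0
    refine ⟨hi, fun x => ?_, fun x hx => ?_, h3⟩
    · rw [e]
      exact (perp Φ A).neg_mem (hg1 _)
    · rw [e]
      refine A.neg_mem (hg2 _ fun a ha => ?_)
      rw [← h3 a ha, hi.1]
      exact hx a ha

/-- `A`, `A'` totally isotropic and opposite, `C` their common orthogonal complement -/
structure Opp (A A' C : Submodule F V) : Prop where
  ti : Φ.TI A
  ti' : Φ.TI A'
  dim : finrank F A = finrank F A'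
  disj : Disjoint A A'
  compl : IsCompl (A ⊔ A') C
  perp_eq : perp Φ A = A ⊔ C
  perp_eq' : perp Φ A' = A' ⊔ C

end

section

variable (F : Type*) [Field F]

/-- irreducible matrices -/
def IrrM {d : ℕ} (g : GL (Fin d) F) : Prop :=
  1 ≤ d ∧ ∀ Y : Submodule F (Fin d → F), (∀ v ∈ Y, (g : Matrix (Fin d) (Fin d) F).mulVec v ∈ Y) → Y = ⊥ ∨ Y = ⊤

/-- the order has a large primitive part -/
def BigM (e M : ℕ) (g : GL (Fin e) F) : Prop :=
  ∃ m : ℕ, M ≤ m ∧ (∀ r : ℕ, r.Prime → r ∣ m → orderOf ((Nat.card F : ℕ) : ZMod r) = e) ∧ m ∣ orderOf g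

end

end Cfsg.Agent.H50.RG
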