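import Cfsg.Agent.H50.RG.LStmts

/-!
# S5714, layer L: from good subspaces to `MixY`

* `mixY_of_free` : the Frobenius trick for subgroups of `GL(V)`;
* `mix_lin` : linear groups (`L13`, `L16`);
* `mix_form` : groups of isometries (`L14`, `L15` and generation).
-/

set_option autoImplicit false
set_option linter.unusedSectionVars false

namespace Cfsg.Agent.H50.RG

open Module Cfsg.Agent.H847.Bs Cfsg.Agent.LieClassical.OrthCore
open Cfsg.Agent.H440.Bs (perp mem_perp)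

theorem MixY.mono {T : Type*} [Group T] {M R : ℝ} {y : T} (h : MixY M y) (hR : R ≤ M) : MixY R y := fun n ρ h0 =>
  (mul_le_mul_of_nonneg_right hR (Nat.cast_nonneg _)).trans (h n ρ h0)

/-- the Frobenius trick, in a subgroup `G` of an ambient group -/
theorem mixY_of_free {A : Type*} [Group A] [Finite A] {G Z Q₁ Q₂ : Subgroup A} {y : A} (hy : y ∈ G) {M : ℕ}
    (hZ : Z ≤ Subgroup.zpowers y) (hM : M ≤ Nat.card Z) (h1 : Free Z Q₁) (h2 : Free Z Q₂) (hgen : Q₁ ⊔ Q₂ = G)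
    {R : ℝ} (hR : R ≤ M) : MixY R (⟨y, hy⟩ : G) := by
  intro n ρ h0
  have hZG : Z ≤ G := hZ.trans (by rwa [Subgroup.zpowers_le])
  have hQ1 : Q₁ ≤ G := le_sup_left.trans hgen.le
  have hQ2 : Q₂ ≤ G := le_sup_right.trans hgen.le
  have hF : ∀ {Q : Subgroup A}, Free Z Q → (∀ z ∈ Z.subgroupOf G, ∀ q ∈ Q.subgroupOf G, z * q * z⁻¹ ∈ Q.subgroupOf G) ∧
      ∀ z ∈ Z.subgroupOf G, z ≠ 1 → ∀ q ∈ Q.subgroupOf G, z * q = q * z → q = 1 := by
    rintro Q ⟨ha, hb⟩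
    refine ⟨fun z hz q hq => ?_, fun z hz hz1 q hq hc => ?_⟩
    · rw [Subgroup.mem_subgroupOf] at hz hq ⊢
      exact ha _ hz _ hq
    · rw [Subgroup.mem_subgroupOf] at hz hq
      have h3 : (z : A) ≠ 1 := fun h => hz1 (Subtype.ext h)
      have h4 : (z : A) * q = q * z := congrArg Subtype.val hc
      exact Subtype.ext (hb _ hz h3 _ hq (by rw [h4, mul_inv_cancel_right]))
  obtain ⟨ha1, hb1⟩ := hF h1
  obtain ⟨ha2, hb2⟩ := hF h2
  have key := frob_trick ρ (Z.subgroupOf G) (Q₁.subgroupOf G) (Q₂.subgroupOf G) ha1 hb1 ha2 hb2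
    (by rw [← Subgroup.subgroupOf_sup hQ1 hQ2, hgen, Subgroup.subgroupOf_self]) h0
  rw [Nat.card_congr (Subgroup.subgroupOfEquivOfLe hZG).toEquiv, Module.finrank_fintype_fun_eq_card,
    Fintype.card_fin] at key
  have h3 : Z.subgroupOf G ≤ Subgroup.zpowers (⟨y, hy⟩ : G) := by
    intro z hz
    rw [Subgroup.mem_subgroupOf] at hz
    obtain ⟨k, hk⟩ := Subgroup.mem_zpowers_iff.1 (hZ hz)
    exact Subgroup.mem_zpowers_iff.2 ⟨k, Subtype.ext (by simpa using hk)⟩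
  have h4 : finrank ℂ (fixd ρ (Subgroup.zpowers (⟨y, hy⟩ : G))) ≤ finrank ℂ (fixd ρ (Z.subgroupOf G)) :=
    Submodule.finrank_mono (fixd_anti ρ h3)
  have h5 : M * finrank ℂ (fixd ρ (Subgroup.zpowers (⟨y, hy⟩ : G))) ≤ 2 * n :=
    (Nat.mul_le_mul hM h4).trans key
  have h6 : (M : ℝ) * finrank ℂ (fixd ρ (Subgroup.zpowers (⟨y, hy⟩ : G))) ≤ 2 * n := by exact_mod_cast h5
  exact (mul_le_mul_of_nonneg_right hR (Nat.cast_nonneg _)).trans h6

section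

variable {F V : Type} [Field F] [Finite F] [AddCommGroup V] [Module F V] [Module.Finite F V]

theorem finite_glV : Finite (V ≃ₗ[F] V) := by
  have : Finite V := Module.finite_of_finite F
  exact Finite.of_injective (fun φ : V ≃ₗ[F] V => (φ : V → V)) DFunLike.coe_injective

/-- linear groups -/
theorem mix_lin (h13 : L13) (h16 : L16) {e M : ℕ} (he : 2 ≤ e) (hM : 2 ≤ M) (hdiv : ¬ e ∣ finrank F V)
    {y : V ≃ₗ[F] V} (hy : y ∈ slV F V) {A : Submodule F V} (h : Gd (Prp F V) e M y A) {R : ℝ} (hR : R ≤ M) :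
    MixY R (⟨y, hy⟩ : slV F V) := by
  have : Finite (V ≃ₗ[F] V) := finite_glV
  obtain ⟨Z, C, hZ, hZM, hAC, hf1, hf2⟩ := h13 F V e M he hM hdiv y A h
  refine mixY_of_free hy hZ hZM hf1 hf2 (h16 F V A C hAC h.irr.ne_bot ?_) hR
  rintro rfl
  have h1 : A = ⊤ := by simpa using hAC.codisjoint.eq_top
  have h2 := h.ts
  rw [h1] at h2
  unfold Prp at h2
  rw [finrank_top] at h2
  exact lt_irrefl _ h2

theorem Opp.symm {Φ : Frm F V} {A A' C : Submodule F V} (h : Opp Φ A A' C) : Opp Φ A' A C :=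
  ⟨h.ti', h.ti, h.dim.symm, h.disj.symm, by rw [sup_comm]; exact h.compl, h.perp_eq', h.perp_eq⟩

/-- isometries which stabilise `A` normalise the radical -/
theorem rad_conj {Φ : Frm F V} {A : Submodule F V} {z g : V ≃ₗ[F] V} (hz : z ∈ Φ.Iso) (h : Inv z A) (h' : Inv z⁻¹ A)
    (hg : g ∈ RadG Φ A) : z * g * z⁻¹ ∈ RadG Φ A := by
  obtain ⟨hg0, hg1, hg2, hg3⟩ := hg
  have hzi : ∀ x, z (z⁻¹ x) = x := fun x => z.apply_symm_apply x
  have hzi' : ∀ x, z⁻¹ (z x) = x := fun x => z.symm_apply_apply x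
  have hp : ∀ x ∈ perp Φ A, z x ∈ perp Φ A := by
    intro x hx a ha
    have h1 := hx (z⁻¹ a) (h' a ha)
    rw [← hz.1, hzi] at h1
    exact h1
  have hp' : ∀ x ∈ perp Φ A, z⁻¹ x ∈ perp Φ A := by
    intro x hx a ha
    have h1 := hx (z a) (h a ha)
    rw [← hzi x, hz.1] at h1
    exact h1
  have e : ∀ x, (z * g * z⁻¹) x - x = z (g (z⁻¹ x) - z⁻¹ x) := by
    intro x
    rw [map_sub, hzi]
    rfl
  refine ⟨mul_mem (mul_mem hz hg0) (inv_mem hz), fun x => ?_, fun x hx => ?_, fun a ha => ?_⟩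
  · rw [e]
    exact hp _ (hg1 _)
  · rw [e]
    exact h _ (hg2 _ (hp' x hx))
  · show z (g (z⁻¹ a)) = a
    rw [hg3 _ (h' a ha), hzi]

/-- groups of isometries -/
theorem mix_form (h14 : L14) (h15 : L15) {Φ : Frm F V} {G : Subgroup (V ≃ₗ[F] V)} (hG : G ≤ Φ.Iso) {e M : ℕ}
    (hΦ : Cls Φ e) (hM : 2 ≤ M)
    (hgen : ∀ A A' C : Submodule F V, finrank F A = e → Opp Φ A A' C → (G ⊓ RadG Φ A) ⊔ (G ⊓ RadG Φ A') = G)
    {y : V ≃ₗ[F] V} (hy : y ∈ G) {A : Submodule F V} (h : Gd Φ.TI e M y A) {R : ℝ} (hR : R ≤ M) :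
    MixY R (⟨y, hy⟩ : G) := by
  have : Finite (V ≃ₗ[F] V) := finite_glV
  obtain ⟨Z, A', C, hZ, hZM, hO, hZ1, hZ2⟩ := h14 F V Φ e M hΦ hM y (hG hy) A h
  have hZG : ∀ z ∈ Z, z ∈ G := fun z hz => by
    have := hZ hz
    rw [Subgroup.mem_zpowers_iff] at this
    obtain ⟨k, rfl⟩ := this
    exact zpow_mem hy k
  have hf1 : Free Z (G ⊓ RadG Φ A) := by
    refine ⟨fun z hz g hg => ?_, fun z hz hz1 g hg hc => ?_⟩
    · exact Subgroup.mem_inf.2 ⟨G.mul_mem (G.mul_mem (hZG z hz) hg.1) (G.inv_mem (hZG z hz)),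
        rad_conj (hG (hZG z hz)) (hZ1 z hz).2.1 (hZ1 z⁻¹ (inv_mem hz)).2.1 hg.2⟩
    · obtain ⟨h1, h2, h3, h4, h5⟩ := hZ2 z hz hz1
      exact h15 F V Φ e A A' C hΦ h.dim hO z (hG (hZG z hz)) (hZ1 z hz).1 (hZ1 z hz).2.1 (hZ1 z hz).2.2 h1 h2 h3 h4
        h5 g hg.2 hc
  have hf2 : Free Z (G ⊓ RadG Φ A') := by
    refine ⟨fun z hz g hg => ?_, fun z hz hz1 g hg hc => ?_⟩
    · exact Subgroup.mem_inf.2 ⟨G.mul_mem (G.mul_mem (hZG z hz) hg.1) (G.inv_mem (hZG z hz)),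
        rad_conj (hG (hZG z hz)) (hZ1 z hz).2.2 (hZ1 z⁻¹ (inv_mem hz)).2.2 hg.2⟩
    · obtain ⟨h1, h2, h3, h4, h5⟩ := hZ2 z hz hz1
      exact h15 F V Φ e A' A C hΦ (by rw [← hO.dim]; exact h.dim) hO.symm z (hG (hZG z hz)) (hZ1 z hz).1
        (hZ1 z hz).2.2 (hZ1 z hz).2.1 h3 h4 h1 h2 h5 g hg.2 hc
  exact mixY_of_free hy hZ hZM hf1 hf2 (hgen A A' C h.dim hO) hR

end

end Cfsg.Agent.H50.RG
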